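import Groth.Agent.L27.Quot.Exists
import Groth.Agent.L27.Quot.Desc
import Groth.Agent.L27.Quot.Finite
import Groth.Agent.L18.NormModule
import Groth.Prelude.Def_RelProj

/-!
# Quotients of quasi-projective schemes by finite groups
-/

set_option autoImplicit false
set_option linter.style.haveILetI false
set_option backward.isDefEq.respectTransparency false
set_option backward.isDefEq.respectTransparency.types false

universe u

open CategoryTheory CategoryTheory.Limits AlgebraicGeometry TopologicalSpace Opposite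

noncomputable section

namespace Groth.L11.QuotProj

open Groth.L27.Quot

variable {X Y S : Scheme.{u}} {G : Type u} [Group G] [Finite G] {ρ : G →* Aut X} {p : X ⟶ Y}

section Norm

variable [Fintype G] (hp : SGA1.IsQuot ρ p)

/-- The product of the conjugates. -/
def orbitProd (U : Y.Opens) : Γ(X, p ⁻¹ᵁ U) →* Γ(X, p ⁻¹ᵁ U) where
  toFun s := ∏ g : G, (act hp.inv g U).hom s
  map_one' := by simp
  map_mul' s t := by simp [Finset.prod_mul_distrib]

omit [Finite G] in
theorem orbitProd_mem (U : Y.Opens) (s : Γ(X, p ⁻¹ᵁ U)) :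
    orbitProd hp U s ∈ Set.range (p.app U).hom := by
  refine (hp.range_iff U _).mpr fun g => ?_
  show (act hp.inv g U).hom (∏ h : G, (act hp.inv h U).hom s) = ∏ h : G, (act hp.inv h U).hom s
  rw [map_prod]
  refine Fintype.prod_equiv (Equiv.mulRight g) _ _ fun h => ?_
  show _ = (act hp.inv (h * g) U).hom s
  rw [act_mul]
  rfl

/-- The norm of a quotient by a finite group. -/
def norm (U : Y.Opens) : Γ(X, p ⁻¹ᵁ U) →* Γ(Y, U) where
  toFun s := (orbitProd_mem hp U s).choose
  map_one' := hp.injective U (by rw [(orbitProd_mem hp U 1).choose_spec, map_one, map_one])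
  map_mul' s t := hp.injective U (by
    rw [(orbitProd_mem hp U (s * t)).choose_spec, map_mul, map_mul, (orbitProd_mem hp U s).choose_spec,
      (orbitProd_mem hp U t).choose_spec])

omit [Finite G] in
theorem app_norm (U : Y.Opens) (s : Γ(X, p ⁻¹ᵁ U)) : (p.app U).hom (norm hp U s) = orbitProd hp U s :=
  (orbitProd_mem hp U s).choose_spec

/-- The norm of a quotient by a finite group, as a norm without degree. -/
def preNorm : Groth.L18.NormDesc.PreNorm p where
  norm := norm hp
  norm_res {U V} i s := by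
    refine hp.injective V ?_
    have e : ∀ t, (p.app V).hom (Y.presheaf.map i.op t) = (res i.le).hom ((p.app U).hom t) := fun t =>
      (app_res_apply (p := p) i.le t).symm
    rw [e, app_norm, app_norm]
    show (res i.le).hom (∏ g : G, (act hp.inv g U).hom s) = ∏ g : G, (act hp.inv g V).hom _
    rw [map_prod]
    exact Finset.prod_congr rfl fun g _ => act_res_apply hp.inv g i.le s
  norm_mem U s x hx hs := by
    rw [IsLocalRing.mem_maximalIdeal] at hs ⊢
    intro hu
    refine hs ?_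
    have h1 := hu.map (p.stalkMap x).hom
    erw [Scheme.Hom.germ_stalkMap_apply] at h1
    change IsUnit (X.presheaf.germ (p ⁻¹ᵁ U) x hx ((p.app U).hom (norm hp U s))) at h1
    rw [app_norm] at h1
    change IsUnit (X.presheaf.germ (p ⁻¹ᵁ U) x hx (∏ g : G, (act hp.inv g U).hom s)) at h1
    rw [map_prod, IsUnit.prod_iff] at h1
    have h2 := h1 1 (Finset.mem_univ _)
    rwa [act_one] at h2

end Norm

/-- A relatively ample module is invertible. -/
theorem isInvertible_of_isRelAmple {X Y : Scheme.{u}} (q : X ⟶ Y) {L : X.Modules} (hL : RelAmple.IsRelAmple q L) : PicF.IsInvertible L := by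
  refine Groth.L18.GenLoc.isInvertible_of_frames fun x => ?_
  obtain ⟨_, ⟨V', hV', rfl⟩, hxV', -⟩ := Y.isBasis_affineOpens.exists_subset_of_mem_open
    (Set.mem_univ (q x)) isOpen_univ
  obtain ⟨U, e, hxU, he⟩ := Groth.L18.Frame.exists_frame (hL.2 ⟨V', hV'⟩).1 ⟨x, hxV'⟩
  exact ⟨(q ⁻¹ᵁ V').ι ''ᵁ U, e, ⟨⟨x, hxV'⟩, hxU, rfl⟩,
    (Groth.L18.Ample.isFrame_restrict_iff L (q ⁻¹ᵁ V') U e).mp he⟩

theorem exists_affine_orbit (f : X ⟶ S) (hρ : ∀ g : G, (ρ g).hom ≫ f = f) {L : X.Modules}
    (hL : RelAmple.IsRelAmple f L) (x : X) :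
    ∃ U : X.Opens, IsAffineOpen U ∧ ∀ g : G, (ρ g).hom x ∈ U := by
  obtain ⟨W, hW, hxW, -⟩ := exists_isAffineOpen_mem_and_subset (X := S) (x := f x) (U := ⊤) trivial
  let A := f ⁻¹ᵁ W
  have hmem : ∀ g : G, (ρ g).hom x ∈ A := fun g => by
    show f ((ρ g).hom x) ∈ W
    rw [← Scheme.Hom.comp_apply, hρ g]
    exact hxW
  obtain ⟨n, s, hs, -, hsa⟩ := Groth.L18.Ample.exists_pow_genLocus_of_isAmple (hL.2 ⟨W, hW⟩)
    (Set.range fun g : G => (⟨_, hmem g⟩ : A.toScheme)) (Set.finite_range _) ⊤ fun _ _ => trivial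
  exact ⟨_, hsa.image_of_isOpenImmersion A.ι, fun g => ⟨⟨_, hmem g⟩, hs ⟨g, rfl⟩, rfl⟩⟩

/-- A quotient of a quasi-projective scheme by a finite group exists and is quasi-projective. -/
theorem exists_quot (f : X ⟶ S) [IsLocallyNoetherian S] (ρ : G →* Aut X) (hρ : ∀ g : G, (ρ g).hom ≫ f = f)
    (hf : RelProj.IsQuasiProjective f) :
    ∃ (Y : Scheme.{u}) (q : X ⟶ Y) (h : Y ⟶ S), q ≫ h = f ∧ SGA1.IsQuot ρ q ∧ RelProj.IsQuasiProjective h ∧
      IsFinite q ∧ Surjective q := by
  obtain ⟨hft, hqc, L, hL⟩ := hf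
  obtain ⟨Y, q, hq⟩ := exists_quotient ρ (exists_affine_orbit f hρ hL)
  let h := desc hq f hρ
  have hqh : q ≫ h = f := comp_desc _ _ _
  haveI : LocallyOfFiniteType (q ≫ h) := by rw [hqh]; exact hft
  haveI : QuasiCompact (q ≫ h) := by rw [hqh]; exact hqc
  haveI := isFinite_of_comp hq h
  haveI : Surjective q := ⟨Groth.L27.Quot.surjective hq⟩
  haveI := quasiCompact_desc hq h
  cases nonempty_fintype G
  have hLi : PicF.IsInvertible L :=
    isInvertible_of_isRelAmple f hL
  obtain ⟨M, -, hM⟩ := Groth.L18.NormDesc.exists_isRelAmple_of_preNorm (q := h) (preNorm hq) (by rw [hqh]; exact hL) hLi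
  exact ⟨Y, q, h, hqh, hq, ⟨locallyOfFiniteType_desc hq h, inferInstance, M, hM⟩, inferInstance, inferInstance⟩

end Groth.L11.QuotProj
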